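import Cfsg.Agent.H6.DCE4
import Cfsg.Agent.H6.LR.M.Rep
import Cfsg.Agent.H6.LR.M.C1.Main
import Cfsg.Agent.H6.LR.M.C2.Main
import Cfsg.Agent.H6.LR.M.C3.Main
import Cfsg.Agent.H6.LR.M.C4.Main
import Cfsg.Agent.H6.LR.M.C5.Main

set_option autoImplicit false
set_option maxRecDepth 100000
set_option Elab.async false

namespace Cfsg.H6.LR.M

theorem top : ⊤ ≤ gen ev C1.X :=
  hX ▸ gen_le_of_zip hev hR (W := [[1], [2], [3], [5], [6], [7], [8], [], [1,2,7,4,6,3], [7,6,1,2,4,6], [1,2,4,6,7,6], [6,3,8,6,7,6,8,4,6]]) (by decide +kernel)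

theorem hX8 : gen ev [[1], [2], [3], [5], [6], [7], [8]] = ⊤ := top_le_iff.mp top

theorem ub : UB (⊤ : Subgroup Grp) 898128000 :=
  ((((UB.bot.cover (C4.cover hev hR)).cover (C3.cover hev hR)).cover (C2.cover hev hR)).cover
    (C1.cover hev hR)).mono top

theorem cover : Cover (gen ev Ws) ⊤ 275 := top_le_iff.mp top ▸ C5.cover hev hR

def I : List Ivl := [(1, 113, [14]), (113, 275, [3])]

theorem act : ∃ φ : Grp →* Equiv.Perm ℕ, IsAct φ ev img 275 18 := by
  obtain ⟨ψ, hψ⟩ := lift rep.1 rep.2.1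
  exact ⟨_, rep.2.2.comp ψ hψ⟩

/-- The permutation representation. -/
noncomputable def φ : Grp →* Equiv.Perm ℕ := act.choose

theorem hφ : IsAct φ ev img 275 18 := act.choose_spec

theorem prim : Prim φ ev (gen ev Ws) 275 I :=
  prim_sound hφ cover (List.forall_mem_cons.mpr ⟨iv0 hφ, (List.forall_mem_cons.mpr ⟨iv1 hφ, (by simp)⟩)⟩) (by decide +kernel)

theorem coatom : IsCoatom (gen ev Ws) :=
  prim.isCoatom hφ hX8 (C := [[], [0,1,2,0,5], [0,2,0,3], [0,1,2,0], [0], [0,6,1,6], [0,0]]) (by decide +kernel)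

def lW0 : List (List ℕ) := [[nat_lit 5, nat_lit 1, nat_lit 5], [nat_lit 3, nat_lit 7, nat_lit 4, nat_lit 6, nat_lit 2], [nat_lit 1, nat_lit 4, nat_lit 2, nat_lit 3, nat_lit 1], [nat_lit 8, nat_lit 3, nat_lit 3, nat_lit 7, nat_lit 4, nat_lit 6, nat_lit 1, nat_lit 3, nat_lit 7, nat_lit 4, nat_lit 6, nat_lit 8, nat_lit 3, nat_lit 1], [nat_lit 8, nat_lit 3, nat_lit 6, nat_lit 3, nat_lit 7, nat_lit 4, nat_lit 8, nat_lit 3, nat_lit 3, nat_lit 7, nat_lit 4, nat_lit 6, nat_lit 8, nat_lit 3]]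

theorem l0 : lvlChk img 275 18 [1,0] (8, lW0, unp 29 (nat_lit 0x170000000a0200003f0200005d0200005d000000530100001a0200001a010000410200001a000000210100004704000047000000500200006300000058010000570000004d0100004d00000069010000690000004b0100002900000008030000110000000f0200000f0000000b0100000800)) = true := by
  decide +kernel

def lW1 : List (List ℕ) := [[nat_lit 3, nat_lit 7, nat_lit 4, nat_lit 6, nat_lit 2]]

theorem l1 : lvlChk img 275 18 [8,1,0] (17, lW1, unp 1 (nat_lit 0x1100)) = true := by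
  decide +kernel

def lW2 : List (List ℕ) := [[nat_lit 4, nat_lit 1, nat_lit 3, nat_lit 2, nat_lit 4, nat_lit 1, nat_lit 3, nat_lit 2], [nat_lit 6, nat_lit 3, nat_lit 7, nat_lit 4, nat_lit 1, nat_lit 4, nat_lit 2, nat_lit 3, nat_lit 5], [nat_lit 8, nat_lit 3, nat_lit 6, nat_lit 3, nat_lit 7, nat_lit 4, nat_lit 8, nat_lit 3, nat_lit 3, nat_lit 7, nat_lit 4, nat_lit 6, nat_lit 8, nat_lit 3], [nat_lit 2, nat_lit 8, nat_lit 3, nat_lit 3, nat_lit 7, nat_lit 4, nat_lit 6, nat_lit 8, nat_lit 3, nat_lit 6, nat_lit 3, nat_lit 7, nat_lit 4, nat_lit 8, nat_lit 3, nat_lit 2]]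

theorem l2 : lvlChk img 275 18 [17,8,1,0] (2, lW2, unp 26 (nat_lit 0x140000005e0100004c0000004f0100004f0000002e0200006f00000028010000280000002a010000460000005f0200005f0000001e0100002b0000002e0100002e000000020300006200000015010000150000003d0100003d00000002020000060100000201)) = true := by
  decide +kernel

def lW3 : List (List ℕ) := [[nat_lit 4, nat_lit 1, nat_lit 3, nat_lit 2, nat_lit 4, nat_lit 1, nat_lit 3, nat_lit 2], [nat_lit 8, nat_lit 3, nat_lit 6, nat_lit 3, nat_lit 7, nat_lit 4, nat_lit 8, nat_lit 3, nat_lit 3, nat_lit 7, nat_lit 4, nat_lit 6, nat_lit 1, nat_lit 3, nat_lit 7, nat_lit 4, nat_lit 6, nat_lit 8, nat_lit 3, nat_lit 6, nat_lit 3, nat_lit 7, nat_lit 4, nat_lit 1, nat_lit 8, nat_lit 3]]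

theorem l3 : lvlChk img 275 18 [2,17,8,1,0] (20, lW3, unp 5 (nat_lit 0x5e0000002501000064000000140100001400)) = true := by
  decide +kernel

def lW4 : List (List ℕ) := [[nat_lit 5, nat_lit 8, nat_lit 3, nat_lit 1, nat_lit 6, nat_lit 3, nat_lit 7, nat_lit 4, nat_lit 8, nat_lit 3, nat_lit 6, nat_lit 3, nat_lit 7, nat_lit 4, nat_lit 4, nat_lit 2, nat_lit 3, nat_lit 6, nat_lit 3, nat_lit 7, nat_lit 4, nat_lit 8, nat_lit 3, nat_lit 6, nat_lit 3, nat_lit 7, nat_lit 4, nat_lit 1, nat_lit 8, nat_lit 3, nat_lit 5, nat_lit 2]]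

theorem l4 : lvlChk img 275 18 [20,2,17,8,1,0] (3, lW4, unp 2 (nat_lit 0x430000000300)) = true := by
  decide +kernel

theorem finite : Finite Grp := ub.top.1

def bs : List ℕ := [3,20,2,17,8,1,0]

theorem lb : LBn φ ⊤ 275 bs 898128000 := by
  have := finite
  exact LBn.cast ((((((prim.lb2 (e := I.head (by decide)) (List.head_mem _)).stepT hφ l0).stepT hφ l1).stepT hφ l2).stepT hφ l3).stepT hφ l4) (by decide +kernel)

theorem main : Nat.card Grp = 898128000 ∧ fixS φ bs = ⊥ ∧ Oracle ev img 18 bs := by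
  have := finite
  exact lb.oracle hφ ub.top.2

theorem normal (N : Subgroup Grp) [N.Normal] (hN : N ≠ ⊥) :
    ∀ t ∈ ([[1], [2], [3], [5], [6], [7], [8]] : List (List ℕ)), evL ev t ∈ N := by
  have := finite
  exact prim.normal_contains hev coatom lb.2 main.2.1 main.2.2 (p := 11) (k := 1) (j := 1) (by norm_num)
    main.1 (x := [5,13,8]) (St := [([5,13,8], [], [7], 7, 2), ([7], [], [1], 3, 2), ([7], [], [6], 3, 2), ([6], [], [8], 5, 2), ([8], [], [3], 2, 3), ([3], [], [2], 3, 2), ([8], [], [5], 3, 2)]) (by decide +kernel) N hN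

theorem simple : IsSimpleGroup Grp := by
  have := prim.nontrivial
  exact isSimple_of_contains hX8 normal


end Cfsg.H6.LR.M
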